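import Groth.Agent.LimTop61.ConsClosed
import Groth.Agent.ConstrTop58.Basic
import Mathlib.AlgebraicGeometry.Noetherian
import Mathlib.AlgebraicGeometry.Morphisms.QuasiSeparated

/-!
Pro-constructible and ind-constructible subsets of schemes through the constructible topology.
-/

set_option autoImplicit false

universe u

open CategoryTheory AlgebraicGeometry TopologicalSpace Topology
open Groth.Agent.LimTop61 Groth.Agent.SpecSp50

namespace Groth.Agent.ConsPts12

local notation "K[" X "]" => constructibleTopology X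

theorem exists_sUnion_constructible {X : Type u} [TopologicalSpace X] [SpectralSpace X] {V : Set X}
    (hV : IsOpen[K[X]] V) : ∃ S : Set (Set X), (∀ s ∈ S, IsConstructible s) ∧ V = ⋃₀ S := by
  obtain ⟨S, hS, hSeq⟩ := @IsTopologicalBasis.open_eq_sUnion X K[X] _
    (@TopologicalSpace.isTopologicalBasis_of_subbasis X K[X] _ rfl) V hV
  refine ⟨S, fun s hs => ?_, hSeq⟩
  obtain ⟨f, ⟨hff, hfs⟩, rfl⟩ := hS hs
  refine IsConstructible.sInter hff fun t ht => ?_
  rcases hfs ht with ⟨ho, hc⟩ | ⟨hcl, hc⟩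
  · exact hc.isConstructible ho
  · exact (hc.isConstructible hcl.isOpen_compl).of_compl

theorem exists_sInter_constructible {X : Type u} [TopologicalSpace X] [SpectralSpace X] {E : Set X}
    (hE : IsClosed[K[X]] E) : ∃ S : Set (Set X), (∀ s ∈ S, IsConstructible s) ∧ E = ⋂₀ S := by
  obtain ⟨S, hS, hSeq⟩ := exists_sUnion_constructible (@IsClosed.isOpen_compl X K[X] _ hE)
  refine ⟨compl '' S, ?_, ?_⟩
  · rintro _ ⟨s, hs, rfl⟩
    exact (hS s hs).compl
  · rw [← Set.compl_sUnion, ← hSeq, compl_compl]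

theorem isClosed_cons_sInter {X : Type u} [TopologicalSpace X] [SpectralSpace X] {S : Set (Set X)}
    (hS : ∀ s ∈ S, IsConstructible s) : IsClosed[K[X]] (⋂₀ S) :=
  @isClosed_sInter X K[X] _ fun s hs => (isConstructible_cons_isClopen (hS s hs)).1

theorem isLocallyConstructible_preimage_opens {X : Scheme.{u}} {E : Set X}
    (hE : IsLocallyConstructible E) (U : X.Opens) :
    IsLocallyConstructible (Subtype.val ⁻¹' E : Set ↥(U : Set X)) :=
  hE.preimage_of_isOpenEmbedding U.2.isOpenEmbedding_subtypeVal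

theorem isProConstructible_iff {X : Scheme.{u}} {E : Set X} :
    ProCons.IsProConstructible E ↔ IsConsClosed E := by
  refine ⟨isConsClosed_of_isProConstructible, fun h x => ?_⟩
  obtain ⟨_, ⟨U, hU, rfl⟩, hxU, -⟩ :=
    X.isBasis_affineOpens.exists_subset_of_mem_open (Set.mem_univ x) isOpen_univ
  replace hU : IsAffineOpen U := hU
  have : SpectralSpace ↥(U : Set X) := spectralSpace_of_isAffineOpen hU
  have hcl : IsClosed[K[↥(U : Set X)]] (Subtype.val ⁻¹' E : Set ↥(U : Set X)) := h U hU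
  obtain ⟨S, hS, hSeq⟩ := exists_sInter_constructible hcl
  exact ⟨U, U.2, hxU, S, fun T hT => (hS T hT).isLocallyConstructible, hSeq⟩

theorem isIndConstructible_iff {X : Scheme.{u}} {E : Set X} :
    ProCons.IsIndConstructible E ↔ IsConsClosed Eᶜ := by
  refine ⟨isConsClosed_compl_of_isIndConstructible, fun h x => ?_⟩
  obtain ⟨_, ⟨U, hU, rfl⟩, hxU, -⟩ :=
    X.isBasis_affineOpens.exists_subset_of_mem_open (Set.mem_univ x) isOpen_univ
  replace hU : IsAffineOpen U := hU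
  have : SpectralSpace ↥(U : Set X) := spectralSpace_of_isAffineOpen hU
  have hcl := h U hU
  have ho : IsOpen[K[↥(U : Set X)]] (Subtype.val ⁻¹' E : Set ↥(U : Set X)) :=
    (@isClosed_compl_iff _ K[↥(U : Set X)] _).mp hcl
  obtain ⟨S, hS, hSeq⟩ := exists_sUnion_constructible ho
  exact ⟨U, U.2, hxU, S, fun T hT => (hS T hT).isLocallyConstructible, hSeq⟩

theorem spectralSpace_qcqs (X : Scheme.{u}) [CompactSpace X] [QuasiSeparatedSpace X] :
    SpectralSpace X :=
  { (inferInstance : T0Space X), (inferInstance : CompactSpace X),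
    (inferInstance : QuasiSober X), (inferInstance : QuasiSeparatedSpace X),
    (inferInstance : PrespectralSpace X) with }

theorem exists_finite_affine_cover (X : Scheme.{u}) {s : Set X} (hs : IsCompact s) :
    ∃ t : Set X.Opens, t.Finite ∧ (∀ U ∈ t, IsAffineOpen U) ∧ s ⊆ ⋃ U ∈ t, (U : Set X) := by
  obtain ⟨t, ht1, ht2, ht3⟩ := hs.elim_finite_subcover_image (b := {U : X.Opens | IsAffineOpen U})
    (c := fun U => (U : Set X)) (fun U _ => U.2) fun x _ => by
      obtain ⟨_, ⟨U, hU, rfl⟩, hxU, -⟩ :=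
        X.isBasis_affineOpens.exists_subset_of_mem_open (Set.mem_univ x) isOpen_univ
      exact Set.mem_biUnion (show U ∈ {U : X.Opens | IsAffineOpen U} from hU) hxU
  exact ⟨t, ht2, fun U hU => ht1 hU, ht3⟩

theorem isConsClosed_iff_isClosed {X : Scheme.{u}} [CompactSpace X] [QuasiSeparatedSpace X]
    {E : Set X} : IsConsClosed E ↔ IsClosed[K[X]] E := by
  have := spectralSpace_qcqs X
  have hcont : ∀ U : X.Opens, IsAffineOpen U → @Continuous _ _ K[(U : Scheme.{u})] K[X] (Scheme.Opens.ι U) := by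
    intro U hU
    have : IsAffine (U : Scheme.{u}) := hU
    exact continuous_cons_of_isSpectralMap (Scheme.Opens.ι U).isSpectralMap
  refine ⟨fun h => ?_, fun h U hU => @IsClosed.preimage _ _ K[(U : Scheme.{u})] K[X] _ (hcont U hU) _ h⟩
  obtain ⟨t, htf, hta, htu⟩ := exists_finite_affine_cover X isCompact_univ
  have heq : E = ⋃ U ∈ t, Scheme.Opens.ι U '' (Scheme.Opens.ι U ⁻¹' E) := by
    ext x
    simp only [Set.mem_iUnion, Set.mem_image, Set.mem_preimage]
    refine ⟨fun hx => ?_, fun ⟨U, hU, z, hz, hzx⟩ => hzx ▸ hz⟩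
    obtain ⟨U, hU, hxU⟩ := Set.mem_iUnion₂.mp (htu (Set.mem_univ x))
    exact ⟨U, hU, ⟨x, hxU⟩, hx, rfl⟩
  rw [heq]
  refine @Set.Finite.isClosed_biUnion _ _ K[X] _ _ htf fun U hU => ?_
  have := spectralSpace_of_isAffineOpen (hta U hU)
  exact @IsCompact.isClosed _ K[X] t2Space_cons _
    (@IsCompact.image _ _ K[(U : Scheme.{u})] K[X] _ _
      (isCompact_cons_of_isClosed_cons (h U (hta U hU))) (hcont U (hta U hU)))

theorem isProConstructible_iff_sInter {X : Scheme.{u}} [CompactSpace X] [QuasiSeparatedSpace X]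
    {E : Set X} : ProCons.IsProConstructible E ↔
      ∃ S : Set (Set X), (∀ s ∈ S, IsConstructible s) ∧ E = ⋂₀ S := by
  have := spectralSpace_qcqs X
  rw [isProConstructible_iff, isConsClosed_iff_isClosed]
  exact ⟨exists_sInter_constructible, fun ⟨S, hS, h⟩ => h ▸ isClosed_cons_sInter hS⟩

theorem isProConstructible_univ (X : Scheme.{u}) : ProCons.IsProConstructible (Set.univ : Set X) :=
  isProConstructible_iff.mpr (isConsClosed_of_isClosed isClosed_univ)

theorem isProConstructible_image {X' X : Scheme.{u}} (f : X' ⟶ X) [QuasiCompact f] {E' : Set X'}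
    (hE' : ProCons.IsProConstructible E') : ProCons.IsProConstructible (f '' E') := by
  rw [isProConstructible_iff] at hE' ⊢
  intro U hU
  have : IsAffine (U : Scheme.{u}) := hU
  have := spectralSpace_of_isAffineOpen hU
  obtain ⟨t, htf, hta, htu⟩ := exists_finite_affine_cover X' (f.isCompact_preimage hU.isCompact)
  -- shrink the affines into the preimage
  have key : ∀ y ∈ f ⁻¹' (U : Set X), ∃ B : X'.Opens, IsAffineOpen B ∧ y ∈ B ∧ B ≤ f ⁻¹ᵁ U := by
    intro y hy
    obtain ⟨_, ⟨B, hB, rfl⟩, hyB, hBle⟩ :=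
      X'.isBasis_affineOpens.exists_subset_of_mem_open (show y ∈ f ⁻¹ᵁ U from hy) (f ⁻¹ᵁ U).2
    exact ⟨B, hB, hyB, hBle⟩
  choose B hB hyB hBle using key
  obtain ⟨T, hT⟩ := (f.isCompact_preimage hU.isCompact).elim_finite_subcover
    (fun y : f ⁻¹' (U : Set X) => (B y.1 y.2 : Set X')) (fun y => (B y.1 y.2).2)
    fun y hy => Set.mem_iUnion.mpr ⟨⟨y, hy⟩, hyB y hy⟩
  let g := fun y : f ⁻¹' (U : Set X) => f.resLE U (B y.1 y.2) (hBle y.1 y.2)
  have hg : ∀ (y) (z : (B y.1 y.2 : Scheme.{u})), (Scheme.Opens.ι U) (g y z) = f (Scheme.Opens.ι _ z) := fun y z => by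
    rw [← Scheme.Hom.comp_apply, ← Scheme.Hom.comp_apply]
    exact congrArg (fun φ : (B y.1 y.2 : Scheme.{u}) ⟶ X => φ z) (Scheme.Hom.resLE_comp_ι f _)
  have heq : (Scheme.Opens.ι U) ⁻¹' (f '' E') =
      ⋃ y ∈ (T : Set (f ⁻¹' (U : Set X))), g y '' (Scheme.Opens.ι (B y.1 y.2) ⁻¹' E') := by
    ext u
    simp only [Set.mem_preimage, Set.mem_image, Set.mem_iUnion]
    constructor
    · rintro ⟨e, he, heu⟩
      have heU : e ∈ f ⁻¹' (U : Set X) := by show f e ∈ U; rw [heu]; exact u.2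
      obtain ⟨y, hy, hey⟩ := Set.mem_iUnion₂.mp (hT heU)
      exact ⟨y, hy, ⟨e, hey⟩, he, (Scheme.Opens.ι U).isOpenEmbedding.injective ((hg y ⟨e, hey⟩).trans heu)⟩
    · rintro ⟨y, hy, z, hz, rfl⟩
      exact ⟨_, hz, (hg y z).symm⟩
  rw [heq]
  refine @Set.Finite.isClosed_biUnion _ _ K[(U : Scheme.{u})] _ _ T.finite_toSet fun y _ => ?_
  have : IsAffine (B y.1 y.2 : Scheme.{u}) := hB y.1 y.2
  have := spectralSpace_of_isAffineOpen (hB y.1 y.2)
  exact @IsCompact.isClosed _ K[(U : Scheme.{u})] t2Space_cons _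
    (@IsCompact.image _ _ K[(B y.1 y.2 : Scheme.{u})] K[(U : Scheme.{u})] _ _
      (isCompact_cons_of_isClosed_cons (hE' _ (hB y.1 y.2))) (continuous_cons_of_hom (g y)))

theorem isIndConstructible_image {X' X : Scheme.{u}} (f : X' ⟶ X) [LocallyOfFinitePresentation f]
    {E' : Set X'} (hE' : ProCons.IsIndConstructible E') : ProCons.IsIndConstructible (f '' E') := by
  rw [isIndConstructible_iff] at hE' ⊢
  intro U hU
  have : IsAffine (U : Scheme.{u}) := hU
  have := spectralSpace_of_isAffineOpen hU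
  rw [Set.preimage_compl]
  refine @IsOpen.isClosed_compl _ K[(U : Scheme.{u})] _ ?_
  refine (@isOpen_iff_forall_mem_open _ K[(U : Scheme.{u})] _).mpr fun u hu => ?_
  obtain ⟨e, he, heu⟩ := hu
  have heU : e ∈ f ⁻¹ᵁ U := by show f e ∈ U; rw [heu]; exact u.2
  obtain ⟨_, ⟨B, hB, rfl⟩, heB, hBle⟩ :=
    X'.isBasis_affineOpens.exists_subset_of_mem_open heU (f ⁻¹ᵁ U).2
  replace hB : IsAffineOpen B := hB
  have : IsAffine (B : Scheme.{u}) := hB
  have := spectralSpace_of_isAffineOpen hB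
  let g := f.resLE U B hBle
  have hg : ∀ z : (B : Scheme.{u}), (Scheme.Opens.ι U) (g z) = f (Scheme.Opens.ι B z) := fun z => by
    rw [← Scheme.Hom.comp_apply, ← Scheme.Hom.comp_apply]
    exact congrArg (fun φ : (B : Scheme.{u}) ⟶ X => φ z) (Scheme.Hom.resLE_comp_ι f _)
  have : LocallyOfFinitePresentation g := by
    have : LocallyOfFinitePresentation (f ∣_ U) :=
      MorphismProperty.of_isPullback (P := @LocallyOfFinitePresentation)
        (isPullback_morphismRestrict f U).flip inferInstance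
    exact MorphismProperty.comp_mem @LocallyOfFinitePresentation _ _
      (inferInstance : LocallyOfFinitePresentation (X'.homOfLE _)) this
  have ho : IsOpen[K[(B : Scheme.{u})]] (Scheme.Opens.ι B ⁻¹' E') :=
    (@isClosed_compl_iff _ K[(B : Scheme.{u})] _).mp (hE' B hB)
  obtain ⟨S, hS, hSeq⟩ := exists_sUnion_constructible ho
  have hmem : (⟨e, heB⟩ : (B : Scheme.{u})) ∈ ⋃₀ S := hSeq.le he
  obtain ⟨s, hs, hes⟩ := hmem
  refine ⟨g '' s, ?_, (isConstructible_cons_isClopen (g.isConstructible_image (hS s hs))).2,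
    ⟨e, heB⟩, hes, (Scheme.Opens.ι U).isOpenEmbedding.injective ((hg ⟨e, heB⟩).trans heu)⟩
  rintro _ ⟨z, hz, rfl⟩
  exact ⟨Scheme.Opens.ι B z, hSeq.ge ⟨s, hs, hz⟩, (hg z).symm⟩

theorem isLocallyConstructible_iff {X : Scheme.{u}} {E : Set X} :
    IsLocallyConstructible E ↔ ProCons.IsIndConstructible E ∧ ProCons.IsProConstructible E := by
  rw [isIndConstructible_iff, isProConstructible_iff]
  refine ⟨fun h => ⟨fun U hU => ?_, fun U hU => (isClopen_cons_of_isLocallyConstructible h hU).1⟩,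
    fun ⟨hi, hp⟩ => ?_⟩
  · exact @IsClopen.isClosed _ K[(U : Scheme.{u})] _
      (@IsClopen.compl _ K[(U : Scheme.{u})] _ (isClopen_cons_of_isLocallyConstructible h hU))
  · intro x
    obtain ⟨_, ⟨U, hU, rfl⟩, hxU, -⟩ :=
      X.isBasis_affineOpens.exists_subset_of_mem_open (Set.mem_univ x) isOpen_univ
    replace hU : IsAffineOpen U := hU
    have : SpectralSpace ↥(U : Set X) := spectralSpace_of_isAffineOpen hU
    have hp' := hp U hU
    have hi' : IsOpen[K[↥(U : Set X)]] (Subtype.val ⁻¹' E : Set ↥(U : Set X)) :=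
      (@isClosed_compl_iff _ K[↥(U : Set X)] _).mp (hi U hU)
    exact ⟨U, U.2.mem_nhds hxU, U.2, isConstructible_of_isClopen_cons ⟨hp', hi'⟩⟩

theorem mem_interior_iff {X : Scheme.{u}} {E : Set X} (hE : ProCons.IsIndConstructible E) (x : X) :
    x ∈ interior E ↔ ∀ x' : X, x' ⤳ x → x' ∈ E := by
  refine ⟨fun h x' hx' => interior_subset (hx'.mem_open isOpen_interior h), fun h => ?_⟩
  obtain ⟨_, ⟨U, hU, rfl⟩, hxU, -⟩ :=
    X.isBasis_affineOpens.exists_subset_of_mem_open (Set.mem_univ x) isOpen_univ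
  replace hU : IsAffineOpen U := hU
  have := spectralSpace_of_isAffineOpen hU
  by_contra hx
  rw [← Set.mem_compl_iff, ← closure_compl] at hx
  have hx' : (⟨x, hxU⟩ : (U : Scheme.{u})) ∈ closure ((Scheme.Opens.ι U) ⁻¹' Eᶜ) := by
    rw [← (Scheme.Opens.ι U).isOpenEmbedding.isOpenMap.preimage_closure_eq_closure_preimage (Scheme.Opens.ι U).continuous]
    exact hx
  obtain ⟨z, hz, hzx⟩ :=
    exists_specializes_of_mem_closure (isIndConstructible_iff.mp hE U hU) hx'
  exact hz (h _ (hzx.map (Scheme.Opens.ι U).continuous))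

theorem exists_finite_inter_subset {X : Scheme.{u}} [CompactSpace X] {E : Set X}
    (hE : ProCons.IsIndConstructible E) {ι : Type u} (F : ι → Set X)
    (hF : ∀ i, ProCons.IsProConstructible (F i)) (h : ⋂ i, F i ⊆ E) :
    ∃ J : Finset ι, ⋂ i ∈ J, F i ⊆ E := by
  classical
  obtain ⟨t, htf, hta, htu⟩ := exists_finite_affine_cover X isCompact_univ
  have key : ∀ U ∈ t, ∃ J : Finset ι, ∀ y ∈ (U : Set X), (∀ i ∈ J, y ∈ F i) → y ∈ E := by
    intro U hU
    have := spectralSpace_of_isAffineOpen (hta U hU)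
    have ho : IsOpen[K[(U : Scheme.{u})]] (Scheme.Opens.ι U ⁻¹' E) :=
      (@isClosed_compl_iff _ K[(U : Scheme.{u})] _).mp (isIndConstructible_iff.mp hE U (hta U hU))
    obtain ⟨J, hJ⟩ := exists_finset_subset_of_iInter_subset (fun i => Scheme.Opens.ι U ⁻¹' F i)
      (fun i => isProConstructible_iff.mp (hF i) U (hta U hU)) ho (fun z hz => by
        refine h (Set.mem_iInter.mpr fun i => ?_)
        exact Set.mem_iInter.mp hz i)
    exact ⟨J, fun y hy hyJ => hJ (show (⟨y, hy⟩ : (U : Scheme.{u})) ∈ _ from Set.mem_iInter₂.mpr hyJ)⟩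
  choose J hJ using key
  refine ⟨htf.toFinset.attach.biUnion fun U => J U.1 (htf.mem_toFinset.mp U.2), fun y hy => ?_⟩
  obtain ⟨U, hU, hyU⟩ := Set.mem_iUnion₂.mp (htu (Set.mem_univ y))
  refine hJ U hU y hyU fun i hi => Set.mem_iInter₂.mp hy i ?_
  exact Finset.mem_biUnion.mpr ⟨⟨U, htf.mem_toFinset.mpr hU⟩, Finset.mem_attach _ _, hi⟩

theorem nhds_closure_of_isIndConstructible {X : Scheme.{u}} {E : Set X}
    (hE : ProCons.IsIndConstructible E) {x : X} (hx : x ∈ E) :
    ∃ O : Set X, IsOpen O ∧ x ∈ O ∧ O ∩ closure {x} ⊆ E := by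
  obtain ⟨_, ⟨U, hU, rfl⟩, hxU, -⟩ :=
    X.isBasis_affineOpens.exists_subset_of_mem_open (Set.mem_univ x) isOpen_univ
  replace hU : IsAffineOpen U := hU
  have := spectralSpace_of_isAffineOpen hU
  have ho : IsOpen[K[(U : Scheme.{u})]] (Scheme.Opens.ι U ⁻¹' E) :=
    (@isClosed_compl_iff _ K[(U : Scheme.{u})] _).mp (isIndConstructible_iff.mp hE U hU)
  obtain ⟨S, hS, hSeq⟩ := exists_sUnion_constructible ho
  obtain ⟨s, hs, hxs⟩ : (⟨x, hxU⟩ : (U : Scheme.{u})) ∈ ⋃₀ S := hSeq.le hx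
  obtain ⟨ι', _, L, hL, hsL⟩ := Groth.Agent.ConstrTop58.exists_locallyClosed_form (hS s hs)
  obtain ⟨i, hi⟩ := Set.mem_iUnion.mp (hsL.le hxs)
  obtain ⟨O, C, hO, hC, hOC⟩ := hL i
  refine ⟨Scheme.Opens.ι U '' O, (Scheme.Opens.ι U).isOpenEmbedding.isOpenMap O hO, ⟨_, (hOC.le hi).1, rfl⟩, ?_⟩
  rintro _ ⟨⟨z, hzO, rfl⟩, hzc⟩
  have hzx : (⟨x, hxU⟩ : (U : Scheme.{u})) ⤳ z :=
    (Scheme.Opens.ι U).isOpenEmbedding.isInducing.specializes_iff.mp (specializes_iff_mem_closure.mpr hzc)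
  have hzC : z ∈ C := hzx.mem_closed hC (hOC.le hi).2
  exact hSeq.ge ⟨s, hs, hsL.ge (Set.mem_iUnion.mpr ⟨i, hOC.ge ⟨hzO, hzC⟩⟩)⟩

theorem isIndConstructible_of_nhds {X : Scheme.{u}} [IsLocallyNoetherian X] {E : Set X}
    (h : ∀ x ∈ E, ∃ O : Set X, IsOpen O ∧ x ∈ O ∧ O ∩ closure {x} ⊆ E) :
    ProCons.IsIndConstructible E := by
  intro x
  obtain ⟨_, ⟨U, hU, rfl⟩, hxU, -⟩ :=
    X.isBasis_affineOpens.exists_subset_of_mem_open (Set.mem_univ x) isOpen_univ
  replace hU : IsAffineOpen U := hU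
  replace hU : IsAffineOpen U := hU
  have : IsAffine (U : Scheme.{u}) := hU
  have : IsLocallyNoetherian (U : Scheme.{u}) := LocallyOfFiniteType.isLocallyNoetherian (Scheme.Opens.ι U)
  have : IsNoetherian (U : Scheme.{u}) := { }
  have : NoetherianSpace ↥(U : Set X) := (inferInstance : NoetherianSpace (U : Scheme.{u}))
  choose O hO hxO hOE using h
  refine ⟨U, U.2, hxU, Set.range (fun y : {y : ↥(U : Set X) // y.1 ∈ E} =>
    (Subtype.val ⁻¹' (O y.1.1 y.2 ∩ closure {y.1.1}) : Set ↥(U : Set X))), ?_, ?_⟩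
  · rintro _ ⟨y, rfl⟩
    exact (Groth.Agent.ConstrTop58.isConstructible_of_isLocallyClosed
      ⟨Subtype.val ⁻¹' O y.1.1 y.2, Subtype.val ⁻¹' closure {y.1.1},
        (hO _ _).preimage continuous_subtype_val, isClosed_closure.preimage continuous_subtype_val,
        rfl⟩).isLocallyConstructible
  · ext z
    refine ⟨fun hz => ⟨_, ⟨⟨z, hz⟩, rfl⟩, hxO z.1 hz, subset_closure rfl⟩, ?_⟩
    rintro ⟨_, ⟨y, rfl⟩, hz⟩
    exact hOE _ _ hz

end Groth.Agent.ConsPts12
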