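import Groth.Agent.ConsPts12.Cons
import Mathlib.RingTheory.Spectrum.Prime.ConstructibleSet
import Mathlib.RingTheory.LocalRing.ResidueField.Ideal
import Mathlib.AlgebraicGeometry.Limits

/-!
Sets closed in the constructible topology are ranges of affine schemes.
-/

set_option autoImplicit false

universe u

open CategoryTheory CategoryTheory.Limits AlgebraicGeometry TopologicalSpace Topology
open Groth.Agent.LimTop61 Groth.Agent.SpecSp50

namespace Groth.Agent.ConsPts12

/-- The product of the residue fields over a constructibly closed set maps exactly onto it. -/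
theorem range_comap_pi_residueField {A : Type u} [CommRing A] {E : Set (PrimeSpectrum A)}
    {S : Set (Set (PrimeSpectrum A))} (hS : ∀ s ∈ S, IsConstructible s) (hE : E = ⋂₀ S) :
    Set.range (PrimeSpectrum.comap
      (RingHom.pi fun p : E => algebraMap A p.1.asIdeal.ResidueField)) = E := by
  classical
  set φ : A →+* (∀ p : E, p.1.asIdeal.ResidueField) :=
    RingHom.pi fun p : E => algebraMap A p.1.asIdeal.ResidueField
  refine Set.Subset.antisymm ?_ fun p hp => ?_
  · rintro _ ⟨Q, rfl⟩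
    by_contra hQ
    obtain ⟨s, hs, hQs⟩ : ∃ s ∈ S, PrimeSpectrum.comap φ Q ∉ s := by
      have h' : PrimeSpectrum.comap φ Q ∉ ⋂₀ S := fun h => hQ (hE.ge h)
      simpa [Set.mem_sInter] using h'
    obtain ⟨T, hT⟩ := PrimeSpectrum.exists_constructibleSetData_iff.mpr (hS s hs).compl
    have hQT : PrimeSpectrum.comap φ Q ∈ T.toSet := hT.ge hQs
    rw [PrimeSpectrum.ConstructibleSetData.toSet] at hQT
    obtain ⟨C, hC, hQC⟩ := Set.mem_iUnion₂.mp hQT
    obtain ⟨hQg, hQf⟩ := hQC
    have hE' : ∀ p : E, p.1 ∉ C.toSet := by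
      intro p hp
      have h1 : p.1 ∈ sᶜ := hT.le (Set.mem_iUnion₂.mpr ⟨C, hC, hp⟩)
      exact h1 (Set.mem_sInter.mp (hE.le p.2) s hs)
    let ev : ∀ (i : Fin C.n) (p : E), p.1.asIdeal.ResidueField := fun i p => φ (C.g i) p
    let e : Fin C.n → (∀ p : E, p.1.asIdeal.ResidueField) := fun i p =>
      ev i p * (ev i p)⁻¹
    have he : ∀ i, e i ∈ Q.asIdeal := by
      intro i
      have hi : φ (C.g i) ∈ Q.asIdeal := hQg (Set.mem_range_self i)
      have : e i = φ (C.g i) * (fun p => (ev i p)⁻¹) := rfl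
      rw [this]
      exact Ideal.mul_mem_right _ _ hi
    have hzero : φ C.f * ∏ i, (1 - e i) = 0 := by
      funext p
      rw [Pi.mul_apply, Finset.prod_apply, Pi.zero_apply, mul_eq_zero]
      by_cases hf : C.f ∈ p.1.asIdeal
      · exact Or.inl (Ideal.algebraMap_residueField_eq_zero.mpr hf)
      · right
        obtain ⟨i, hi⟩ : ∃ i, C.g i ∉ p.1.asIdeal := by
          by_contra hall
          push Not at hall
          refine hE' p ⟨?_, ?_⟩
          · rintro _ ⟨i, rfl⟩; exact hall i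
          · exact fun h => hf (h rfl)
        refine Finset.prod_eq_zero (Finset.mem_univ i) ?_
        have hne : ev i p ≠ 0 := fun h => hi (Ideal.algebraMap_residueField_eq_zero.mp h)
        show (1 : p.1.asIdeal.ResidueField) - ev i p * (ev i p)⁻¹ = 0
        rw [mul_inv_cancel₀ hne, sub_self]
    have hmem : φ C.f * ∏ i, (1 - e i) ∈ Q.asIdeal := hzero ▸ zero_mem _
    rcases Q.2.mem_or_mem hmem with h | h
    · exact hQf (by rintro _ rfl; exact h)
    · obtain ⟨i, -, hi⟩ := (Ideal.IsPrime.prod_mem_iff (hp := Q.2)).mp h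
      refine Q.2.ne_top ((Ideal.eq_top_iff_one _).mpr ?_)
      simpa using add_mem hi (he i)
  · refine ⟨⟨RingHom.ker (Pi.evalRingHom (fun p : E => p.1.asIdeal.ResidueField) ⟨p, hp⟩),
      RingHom.ker_isPrime _⟩, ?_⟩
    ext a
    exact Ideal.algebraMap_residueField_eq_zero

theorem exists_affine_range {X : Scheme.{u}} [CompactSpace X] [QuasiSeparatedSpace X] {E : Set X}
    (hE : ProCons.IsProConstructible E) :
    ∃ (X' : Scheme.{u}) (f : X' ⟶ X), IsAffine X' ∧ Set.range f = E := by
  obtain ⟨t, htf, hta, htu⟩ := exists_finite_affine_cover X isCompact_univ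
  have hloc : ∀ U : t, ∃ (B : CommRingCat.{u}) (g : Spec B ⟶ X), Set.range g = E ∩ (U.1 : Set X) := by
    intro U
    have hU := hta U.1 U.2
    let F : Set (PrimeSpectrum Γ(X, U.1)) := hU.fromSpec ⁻¹' E
    have hF : ProCons.IsProConstructible (hU.fromSpec ⁻¹' E) :=
      isProConstructible_iff.mpr ((isConsClosed_of_isProConstructible hE).preimage hU.fromSpec)
    obtain ⟨S, hS, hSF⟩ := isProConstructible_iff_sInter.mp hF
    let φ := RingHom.pi fun p : F => algebraMap Γ(X, U.1) p.1.asIdeal.ResidueField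
    refine ⟨CommRingCat.of _, Spec.map (CommRingCat.ofHom φ) ≫ hU.fromSpec, ?_⟩
    rw [Scheme.Hom.comp_base, TopCat.coe_comp, Set.range_comp]
    have h1 : Set.range (Spec.map (CommRingCat.ofHom φ)) = F :=
      range_comap_pi_residueField (A := Γ(X, U.1)) (E := F) hS hSF
    rw [h1]
    show hU.fromSpec '' (hU.fromSpec ⁻¹' E) = _
    rw [Set.image_preimage_eq_inter_range, hU.range_fromSpec]
  choose B g hg using hloc
  have : Finite t := htf.to_subtype
  let X' := ∐ fun i : t => Spec (B i)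
  refine ⟨X', Sigma.desc g, inferInstance, ?_⟩
  refine Set.Subset.antisymm ?_ fun x hx => ?_
  · rintro _ ⟨z, rfl⟩
    obtain ⟨⟨i, y⟩, rfl⟩ := (sigmaMk fun i : t => Spec (B i)).surjective z
    rw [sigmaMk_mk, ← Scheme.Hom.comp_apply, Sigma.ι_desc]
    exact ((hg i).le ⟨y, rfl⟩).1
  · obtain ⟨U, hU, hxU⟩ := Set.mem_iUnion₂.mp (htu (Set.mem_univ x))
    obtain ⟨y, hy⟩ : x ∈ Set.range (g ⟨U, hU⟩) := by rw [hg]; exact ⟨hx, hxU⟩
    refine ⟨Sigma.ι (fun i : t => Spec (B i)) ⟨U, hU⟩ y, ?_⟩
    rw [← Scheme.Hom.comp_apply, Sigma.ι_desc]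
    exact hy

end Groth.Agent.ConsPts12
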